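import Cfsg.Agent.Lib.MonSC.YGlue2
import Cfsg.Agent.Lib.YB.E6N
import Cfsg.Agent.Lib.LargeExtra.Pair
import Cfsg.Agent.Lib.SL2.Klein

/-!
# The centraliser `2².²E₆(2)` of a pure four-group of short involutions (helper18)
-/

set_option autoImplicit false
set_option maxRecDepth 100000

namespace H18.YG

open Cfsg Cfsg.Spor H54 H94 H18.TC Subgroup H95 H95.Gr

variable {G : Type*} [Group G]

theorem four_shape {T : Type*} [Group T] {a b o c : G} (p : H29.IsPair a b) (o1 : o * a * o⁻¹ = b)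
    (o2 : o * b * o⁻¹ = a) (c1 : c * a * c⁻¹ = a) (c2 : c * b * c⁻¹ = a * b) {K : Subgroup G}
    (hK : K = centralizer {a} ⊓ centralizer {b}) (ψ : K →* T) (s : Function.Surjective ψ)
    (ker : ∀ k, ψ k = 1 ↔ k.1 ∈ closure ({a, b} : Set G)) (perf : commutator K = ⊤) :
    ∃ (E N : Subgroup G) (K : Subgroup N), IsKleinFour E ∧ N = normalizer (E : Set G) ∧ E.subgroupOf N ≤ K ∧
      (∃ _ : ((E.subgroupOf N).subgroupOf K).Normal, Nonempty (K ⧸ (E.subgroupOf N).subgroupOf K ≃* T)) ∧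
      (∃ _ : K.Normal, Nonempty (N ⧸ K ≃* Equiv.Perm (Fin 3))) ∧
      ∀ L : Subgroup K, ¬ ((E.subgroupOf N).subgroupOf K).IsComplement' L := by
  have k4 := p.isKleinFour
  have : Finite (closure ({a, b} : Set G)) := Nat.finite_of_card_ne_zero (by rw [k4.card_four]; norm_num)
  have mK : ∀ {k}, k ∈ K ↔ k * a = a * k ∧ k * b = b * k := by
    intro k; rw [hK, mem_inf, mem_centralizer_singleton_iff, mem_centralizer_singleton_iff]
  have cK : centralizer ((closure ({a, b} : Set G) : Subgroup G) : Set G) = K :=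
    Subgroup.ext fun _ => mem_centralizer_closure_pair.trans mK.symm
  have KN : K ≤ normalizer ((closure ({a, b} : Set G) : Subgroup G) : Set G) :=
    cK ▸ centralizer_le_normalizer _
  have EK : closure ({a, b} : Set G) ≤ K := (closure_le _).2 (by
    rintro _ (rfl | rfl)
    exacts [mK.2 ⟨rfl, p.comm⟩, mK.2 ⟨p.comm.symm, rfl⟩])
  have nm : ∀ {g}, g * a * g⁻¹ ∈ closure ({a, b} : Set G) → g * b * g⁻¹ ∈ closure ({a, b} : Set G) →
      g ∈ normalizer ((closure ({a, b} : Set G) : Subgroup G) : Set G) := fun {g} h1 h2 =>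
    mem_normalizer_fintype fun n hn => (closure_le ((closure ({a, b} : Set G)).comap
      (MulAut.conj g).toMonoidHom)).2 (by rintro _ (rfl | rfl); exacts [h1, h2]) hn
  obtain ⟨θ, hθ⟩ := exists_hom_four p.sq₁ p.sq₂ p.comm p.ne₁ p.ne₂ p.ne
  have d1 : o * c * o⁻¹ * b * (o * c * o⁻¹)⁻¹ = b := by
    calc _ = o * (c * (o⁻¹ * b * o) * c⁻¹) * o⁻¹ := by group
      _ = _ := by rw [show o⁻¹ * b * o = a by rw [← o1]; group, c1, o1]
  have d2 : o * c * o⁻¹ * a * (o * c * o⁻¹)⁻¹ = a * b := by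
    calc _ = o * (c * (o⁻¹ * a * o) * c⁻¹) * o⁻¹ := by group
      _ = _ := by rw [show o⁻¹ * a * o = b by rw [← o2]; group, c2, ← conj_mul, o1, o2, p.comm]
  have top : θ.range = ⊤ := perm3_top
    ⟨⟨c, nm (p.mem_closure.2 (by simp [c1])) (p.mem_closure.2 (by simp [c2]))⟩, rfl⟩
    ⟨⟨_, nm (p.mem_closure.2 (.inr (.inr (.inr d2)))) (p.mem_closure.2 (.inr (.inr (.inl d1))))⟩, rfl⟩
    ((hθ _ 0 0).2 c1) ((hθ _ 1 2).2 c2) ((hθ _ 1 1).2 d1) ((hθ _ 0 2).2 d2)
  have kθ : θ.ker = K.subgroupOf _ := Subgroup.ext fun g => by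
    rw [MonoidHom.mem_ker, mem_subgroupOf, mK]
    exact ⟨fun h => ⟨mul_inv_eq_iff_eq_mul.1 ((hθ g 0 0).1 (by rw [h]; rfl)),
      mul_inv_eq_iff_eq_mul.1 ((hθ g 1 1).1 (by rw [h]; rfl))⟩, fun h =>
      (by decide : ∀ σ : Equiv.Perm (Fin 3), σ 0 = 0 → σ 1 = 1 → σ = 1) _
        ((hθ g 0 0).2 (mul_inv_eq_iff_eq_mul.2 h.1)) ((hθ g 1 1).2 (mul_inv_eq_iff_eq_mul.2 h.2))⟩
  let ε := subgroupOfEquivOfLe KN
  have kψ : (ψ.comp ε.toMonoidHom).ker = ((closure ({a, b} : Set G)).subgroupOf _).subgroupOf _ :=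
    Subgroup.ext fun g => ker _
  have nθ : (K.subgroupOf (normalizer ((closure ({a, b} : Set G) : Subgroup G) : Set G))).Normal :=
    kθ ▸ inferInstance
  refine ⟨_, _, K.subgroupOf _, k4, rfl, comap_mono EK, ⟨kψ ▸ inferInstance,
    ⟨(QuotientGroup.quotientMulEquivOfEq kψ.symm).trans
      (QuotientGroup.quotientKerEquivOfSurjective _ (s.comp ε.surjective))⟩⟩, ⟨nθ,
    ⟨(QuotientGroup.quotientMulEquivOfEq kθ.symm).trans
      (QuotientGroup.quotientKerEquivOfSurjective _ (MonoidHom.range_eq_top.1 top))⟩⟩, fun L hL => ?_⟩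
  have z : ((closure ({a, b} : Set G)).subgroupOf _).subgroupOf (K.subgroupOf
      (normalizer ((closure ({a, b} : Set G) : Subgroup G) : Set G))) ≤ center _ := fun e he =>
    mem_center_iff.2 fun k => Subtype.ext (Subtype.ext ((mem_centralizer_iff.1 (cK.ge k.2) _ he).symm))
  have n : L.Normal := ⟨fun l hl g => by
    obtain ⟨⟨e, m⟩, rfl⟩ := hL.2 g
    show e.1 * m * l * (e.1 * m)⁻¹ ∈ L
    rw [show e.1 * m * l * (e.1 * m)⁻¹ = e * (m * l * m⁻¹) * e.1⁻¹ by simp [mul_assoc],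
      ← mem_center_iff.1 (z e.2), mul_inv_cancel_right]
    exact mul_mem (mul_mem m.2 hl) m⁻¹.2⟩
  have t : commutator _ ≤ L := Subgroup.Normal.commutator_le_of_self_sup_commutative_eq_top
    (H := center _) (top_le_iff.1 (hL.symm.sup_eq_top.ge.trans (sup_le_sup_left z _))) inferInstance
  rw [show commutator (K.subgroupOf _) = ⊤ by
    rw [← map_equiv_top ε.symm, ← perf, _root_.commutator_def, _root_.commutator_def, map_commutator,
      map_equiv_top]] at t
  have a' : (⟨⟨a, KN (mK.2 ⟨rfl, p.comm⟩)⟩, mK.2 ⟨rfl, p.comm⟩⟩ : K.subgroupOf _) = 1 :=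
    disjoint_def.1 hL.disjoint (p.mem_closure.2 (.inr (.inl rfl))) (t (mem_top _))
  exact p.ne₁ (congrArg (fun k => k.1.1) a')

/-- the nodes of Y333 -/
def fF : List ℕ := [3, 2, 1, 0, 6, 7, 8, 11, 12, 13]

theorem gsub_fF {x : ℕ → G} (h : Sat x 14 RM) : gsub x fF = gsub x fE :=
  le_antisymm (gsub_mono x (by decide)) (gsub_le fun n hn => by
    rcases (by decide : ∀ n ∈ fE, n ∈ fF ∨ n = 5 ∨ n = 10) n hn with c | rfl | rfl
    · exact mem_gsub x c
    · exact f1_eq (sat553 h) ▸ ev_mem_gsub x (by decide +kernel)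
    · exact f2_eq (sat553 h) ▸ ev_mem_gsub x (by decide +kernel))

theorem perfect_fF {x : ℕ → G} (h : Sat x 14 RM) : commutator (gsub x fF) = ⊤ := by
  have m := lab_mem h.one fF
  have s := (h.sub fF (rels' := rep 9 [3, 7, 4, 2, 8, 5, 9] :: [[0, 1], [1, 2], [2, 3], [3, 4], [4, 5], [5, 6],
    [3, 7], [7, 8], [8, 9]].map (rep 3)) (by decide +kernel)).lift m
  have c := fun {i j} (a : IsConj (⟨_, m 0⟩ : gsub x fF) _) r => a.trans (isConj_iff.2 ⟨_, s.conj (x := i) (y := j) (Or.inl r)⟩)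
  have c1 := c (j := 1) (IsConj.refl _) (by decide)
  have c2 := c (j := 2) c1 (by decide)
  have c3 := c (j := 3) c2 (by decide)
  have c4 := c (j := 4) c3 (by decide)
  have c5 := c (j := 5) c4 (by decide)
  have c6 := c (j := 6) c5 (by decide)
  have c7 := c (j := 7) c3 (by decide)
  have c8 := c (j := 8) c7 (by decide)
  have c9 := c (j := 9) c8 (by decide)
  refine perfect_of_odd (gsub_lift_top m (gsub_lab x fF 14)) (fun j hj => ?_) (s.sq 0) (by decide) (by decide)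
    (s.rel _ List.mem_cons_self)
  replace hj : j < 10 := List.mem_range.1 hj
  interval_cases j <;> first | assumption | exact IsConj.refl _

theorem exists_psi {x : ℕ → G} (h : Sat x 14 RM) (p : H29.IsPair (x 5) (x 10))
    (hc : Nat.card (gsub x fF) = 306129918735099415756800) : ∃ ψ : gsub x fF →* E6N.T,
      Function.Surjective ψ ∧ ∀ k, ψ k = 1 ↔ k.1 ∈ closure ({x 5, x 10} : Set G) := by
  have k := sat553 h
  have := normal_zp (x 5)
  have : Finite (gsub x fF) := Nat.finite_of_card_ne_zero (by rw [hc]; norm_num)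
  obtain ⟨β, b1, -⟩ := exists_beta h
  have l : gsub x fF ≤ centralizer {x 5} := (gsub_mono x (by decide)).trans (H_le k)
  have m : ∀ j ∈ YB.fK, x (lab fB 14 j) ∈ gsub x fF := fun j hj =>
    mem_gsub x ((by decide : ∀ j ∈ YB.fK, lab fB 14 j ∈ fF) j hj)
  have b2 := fun j (hj : j ∈ YB.fK) => b1 j ((by decide : ∀ j ∈ YB.fK, j < 11) j hj)
  let π := (QuotientGroup.mk' ((zpowers (x 5)).subgroupOf _)).comp (inclusion l)
  have r : π.range = gsub (fun j => β (YB.b j)) YB.fK := by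
    refine le_antisymm ?_ (gsub_le fun j hj => ⟨⟨_, m j hj⟩, (b2 j hj).symm⟩)
    rintro _ ⟨a, rfl⟩
    obtain ⟨b, hb, e⟩ := gsub_le (K := ((gsub (fun j => β (YB.b j)) YB.fK).comap (QuotientGroup.mk' _)).map
      (centralizer {x 5}).subtype) (fun n hn => by
        obtain ⟨j, hj, rfl⟩ := (by decide : ∀ n ∈ fF, ∃ j ∈ YB.fK, lab fB 14 j = n) n hn
        exact ⟨_, b2 j hj ▸ mem_gsub (fun j => β (YB.b j)) hj, rfl⟩) a.2
    rwa [(Subtype.ext e : b = inclusion l a)] at hb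
  have c1 : Nat.card π.ker ≤ 2 := by
    have o : Nat.card (zpowers (x 5)) = 2 := by
      rw [Nat.card_zpowers]; exact orderOf_eq_prime (by rw [sq, p.sq₁]) p.ne₁
    have : Finite (zpowers (x 5)) := Nat.finite_of_card_ne_zero (by rw [o]; norm_num)
    rw [← o, ← card_map_of_injective (gsub x fF).subtype_injective]
    refine card_le_of_le ?_
    rintro _ ⟨a, ha, rfl⟩
    exact mem_subgroupOf.1 ((QuotientGroup.eq_one_iff (inclusion l a)).1 ha)
  have c2 := π.ker.card_mul_index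
  rw [index_ker, r, hc] at c2
  obtain ⟨ψ, hψ⟩ := YB.hom_of_card E6N.y (YB.bd_Y333 (YB.sat_prod (YB.satK (YB.sat.map β))
    ⟨E6N.sat.inv, E6N.sat.one, fun R hR => E6N.sat.rel R (List.mem_cons_of_mem _ hR)⟩))
    (by nlinarith)
  let χ := ψ.comp (π.codRestrict _ fun a => r.le ⟨a, rfl⟩)
  have e1 : ∀ j (hj : j ∈ YB.fK), χ ⟨_, m j hj⟩ = E6N.y j := fun j hj =>
    (congrArg ψ (Subtype.ext (b2 j hj).symm)).trans (hψ j hj)
  have e2 : ∀ (w : List ℕ) (hw : ∀ j ∈ w, j ∈ YB.fK),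
      χ ⟨ev (fun j => x (lab fB 14 j)) w, ev_mem fun j hj => m j (hw j hj)⟩ = ev E6N.y w := fun w hw => by
    induction w with
    | nil => exact map_one χ
    | cons j w ih =>
      rw [ev_cons E6N.y, ← ih fun i hi => hw i (List.mem_cons_of_mem _ hi), ← e1 j (hw j List.mem_cons_self),
        ← map_mul]
      exact congrArg χ (Subtype.ext (ev_cons _ _ _))
  have s : χ.range = ⊤ := top_le_iff.1 (E6N.top.ge.trans (gsub_le fun j hj => ⟨_, e1 j hj⟩))
  have c3 := χ.ker.card_mul_index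
  rw [index_ker, s, card_top, E6N.card_T, hc] at c3
  have m5 : x 5 ∈ gsub x fF := (gsub_fF h).ge (mem_gsub x (by decide))
  have m10 : x 10 ∈ gsub x fF := (gsub_fF h).ge (mem_gsub x (by decide))
  have EK : closure ({x 5, x 10} : Set G) ≤ χ.ker.map (Subgroup.subtype _) := (closure_le _).2 (by
    rintro _ (rfl | rfl)
    · refine ⟨⟨_, m5⟩, (congrArg ψ (Subtype.ext ?_)).trans (map_one ψ), rfl⟩
      exact (QuotientGroup.eq_one_iff _).2 (mem_subgroupOf.2 (mem_zpowers _))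
    · refine ⟨⟨_, m10⟩, (congrArg χ (Subtype.ext ?_)).trans ((e2 (rep 9 [3, 4, 2, 8, 5, 1, 6])
        (by decide +kernel)).trans (E6N.sat.rel _ List.mem_cons_self)), rfl⟩
      exact (f2_eq k).symm.trans ((congrArg (ev x) (by decide +kernel)).trans (ev_map' _ _).symm))
  have : Finite (χ.ker.map (Subgroup.subtype _)) := Finite.of_surjective _ (MonoidHom.subgroupMap_surjective _ _)
  refine ⟨χ, MonoidHom.range_eq_top.1 s, fun a => ?_⟩
  rw [eq_of_le_of_card_ge EK (by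
    rw [card_map_of_injective (gsub x fF).subtype_injective, p.isKleinFour.card_four]; omega)]
  exact (mem_map_iff_mem (K := χ.ker) (gsub x fF).subtype_injective).symm

theorem card_cent2 {t : GG} (h : InD t0 t) :
    Nat.card (centralizer {t0} ⊓ centralizer {t} : Subgroup GG) = 306129918735099415756800 := by
  have b : (centralizer {t}).relIndex HH = 27143910000 := by
    rw [← sys_top.ncard_D ix_t0, show centralizer {t} = MulAction.stabilizer GG
      (CPt.of t) from Subgroup.ext fun x => mem_cent_iff.trans CPt.smul_eq_self_iff.symm,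
      relIndex_stabilizer]
    refine congrArg _ (Set.ext fun x => ⟨?_, fun hx => ?_⟩)
    · rintro ⟨c, rfl⟩
      exact h.conj' c.2
    · obtain ⟨c, hc, f⟩ := trans_D h hx
      exact ⟨⟨c, hc⟩, f⟩
  have c := ((centralizer {t}).subgroupOf HH).card_mul_index
  rw [show ((centralizer {t}).subgroupOf HH).index = _ from b, card_HH, ← inf_subgroupOf_left,
    Nat.card_congr (subgroupOfEquivOfLe inf_le_left).toEquiv] at c
  exact Nat.eq_of_mul_eq_mul_right (by norm_num) (c.trans (by norm_num))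

/-- the data in any group isomorphic to the model -/
theorem Nd.four {x : ℕ → GG} (hx : Nd x) (e : GG ≃* G) : ∃ (y : ℕ → G) (c : G), Sat y 14 RM ∧
    H29.IsPair (y 5) (y 10) ∧ gsub y fF = centralizer {y 5} ⊓ centralizer {y 10} ∧
    Nat.card (gsub y fF) = 306129918735099415756800 ∧ c * y 5 * c⁻¹ = y 5 ∧ c * y 10 * c⁻¹ = y 5 * y 10 := by
  obtain ⟨z, hz, hd⟩ : ∃ z, Nd z ∧ z 5 = t0 := by
    obtain ⟨d, hd⟩ := hx.std
    exact ⟨_, ⟨hx.1.map (cj d).toMonoidHom, hx.2.conj d⟩, hd⟩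
  have i : InD t0 (z 10) := ⟨hz.ix (by norm_num), hd ▸ hz.ix2⟩
  obtain ⟨c, hc, f⟩ := trans_D i (i.mul ix_t0)
  have s := hz.1.map e.toMonoidHom
  have g : gsub (fun n => e.toMonoidHom (z n)) fF = (centralizer {t0} ⊓ centralizer {z 10}).map e.toMonoidHom := by
    rw [← map_gsub, gsub_fF hz.1, hz.cent2, hd]
  refine ⟨_, e c, s, ⟨s.sq 5, e.map_ne_one_iff.2 hz.2.ne_one, s.sq 10,
    e.map_ne_one_iff.2 i.1.ne_one, fun a => hz.ix2.ne_one (by rw [e.injective a, hz.1.sq]),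
    (sat553 s).comm (by decide +kernel)⟩, ?_, ?_, ?_, ?_⟩
  · ext y
    obtain ⟨y, rfl⟩ := e.surjective y
    rw [g]
    refine (mem_map_iff_mem (f := e.toMonoidHom) e.injective).trans ?_
    simp only [mem_inf, mem_cent_iff, MulEquiv.toMonoidHom_eq_coe, MonoidHom.coe_coe, ← map_mul,
      e.injective.eq_iff, hd]
  · rw [g, card_map_of_injective e.injective, card_cent2 i]
  · simp only [MulEquiv.toMonoidHom_eq_coe, MonoidHom.coe_coe, ← map_mul, ← map_inv, hd]
    exact congrArg e (mem_HH.1 hc)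
  · simp only [MulEquiv.toMonoidHom_eq_coe, MonoidHom.coe_coe, ← map_mul, ← map_inv, hd]
    exact congrArg e f

end H18.YG
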